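import Groth.Agent.S1233
import Groth.Agent.S0736
import Groth.Agent.IndEtLib.Sys
import Groth.Agent.WEtLib.Basic
import Mathlib.RingTheory.QuasiFinite.Basic
import Mathlib.RingTheory.Flat.FaithfullyFlat.Algebra

/-! weakly associated maximal ideals along ind-etale local maps -/

set_option autoImplicit false
set_option maxHeartbeats 1000000
set_option linter.style.haveILetI false

universe u

open TensorProduct IsLocalRing

namespace Groth.Agent.WeakAssHens

theorem mem_weakAss_maximal_iff_exists {R : Type u} [CommRing R] [IsLocalRing R] {M : Type u} [AddCommGroup M]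
    [Module R M] :
    maximalIdeal R ∈ FlatCA.weakAss R M ↔ ∃ m : M, m ≠ 0 ∧ ∀ s ∈ maximalIdeal R, ∃ k : ℕ, s ^ k • m = 0 := by
  constructor
  · rintro ⟨m, hm⟩
    refine ⟨m, fun h => ?_, fun s hs => ?_⟩
    · have h1 : (1 : R) ∈ (Submodule.span R {m}).annihilator := by
        rw [Submodule.mem_annihilator_span_singleton, h, smul_zero]
      exact (maximalIdeal.isMaximal R).ne_top (Ideal.eq_top_iff_one _ |>.2 (hm.1.2 h1))
    · have : s ∈ (Submodule.span R {m}).annihilator.radical := by
        rw [Ideal.radical_eq_sInf]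
        refine Submodule.mem_sInf.2 fun J ⟨hJ, hJp⟩ => ?_
        exact (hm.2 ⟨hJp, hJ⟩ (le_maximalIdeal hJp.ne_top)) hs
      obtain ⟨k, hk⟩ := this
      exact ⟨k, (Submodule.mem_annihilator_span_singleton _ _).1 hk⟩
  · rintro ⟨m, hm0, h⟩
    refine ⟨m, ⟨⟨inferInstance, le_maximalIdeal fun hA => hm0 ?_⟩, fun J ⟨hJp, hJ⟩ _ s hs => ?_⟩⟩
    · simpa using (Submodule.mem_annihilator_span_singleton m (1 : R)).1 (hA ▸ Submodule.mem_top)
    · obtain ⟨k, hk⟩ := h s hs
      exact hJp.mem_of_pow_mem k (hJ ((Submodule.mem_annihilator_span_singleton _ _).2 hk))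

theorem exists_not_mem_smul_eq_zero {A B N : Type u} [CommRing A] [CommRing B] [Algebra A B] [Module.Flat A B]
    [IsLocalRing B] [AddCommGroup N] [Module A N] (w : N) (h : (1 : B) ⊗ₜ[A] w = 0) :
    ∃ t : A, t ∉ (maximalIdeal B).comap (algebraMap A B) ∧ t • w = 0 := by
  by_contra hne
  push_neg at hne
  let I := (Submodule.span A {w}).annihilator
  let q : A ⧸ I →ₗ[A] N := Submodule.liftQ _ (LinearMap.toSpanSingleton A N w) fun r hr => by
    rw [LinearMap.mem_ker, LinearMap.toSpanSingleton_apply]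
    exact (Submodule.mem_annihilator_span_singleton _ _).1 hr
  have hq : Function.Injective q := by
    rw [← LinearMap.ker_eq_bot]
    refine Submodule.ker_liftQ_eq_bot _ _ _ fun r hr => (Submodule.mem_annihilator_span_singleton _ _).2 ?_
    rwa [LinearMap.mem_ker, LinearMap.toSpanSingleton_apply] at hr
  have h1 : (1 : B) ⊗ₜ[A] (Ideal.Quotient.mk I 1) = 0 := by
    apply Module.Flat.lTensor_preserves_injective_linearMap q hq
    rw [map_zero, LinearMap.lTensor_tmul]
    show (1 : B) ⊗ₜ[A] ((1 : A) • w) = 0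
    rw [one_smul, h]
  have h2 := congrArg (Algebra.TensorProduct.quotIdealMapEquivTensorQuot B I).symm h1
  rw [Algebra.TensorProduct.quotIdealMapEquivTensorQuot_symm_tmul, map_zero] at h2
  have h3 : (1 : B) ∈ I.map (algebraMap A B) := Ideal.Quotient.eq_zero_iff_mem.1 (by simpa using h2)
  refine (maximalIdeal.isMaximal B).ne_top (Ideal.eq_top_iff_one _ |>.2 (Ideal.map_le_iff_le_comap.2 (fun a ha => ?_) h3))
  by_contra hc
  exact hne a hc ((Submodule.mem_annihilator_span_singleton _ _).1 ha)

theorem mem_weakAss_iff {R B : Type u} [CommRing R] [IsLocalRing R] [CommRing B] [IsLocalRing B] [Algebra R B]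
    [IsLocalHom (algebraMap R B)] [Module.FaithfullyFlat R B]
    (hm : (maximalIdeal R).map (algebraMap R B) = maximalIdeal B) (hind : EtPBC.IsIndEtale R B)
    (N : Type u) [AddCommGroup N] [Module R N] :
    maximalIdeal R ∈ FlatCA.weakAss R N ↔ maximalIdeal B ∈ FlatCA.weakAss B (B ⊗[R] N) := by
  constructor
  · intro h
    obtain ⟨x, hx0, hx⟩ := mem_weakAss_maximal_iff_exists.1 h
    refine ⟨(1 : B) ⊗ₜ[R] x, ⟨⟨inferInstance, le_maximalIdeal fun hA => hx0 ?_⟩, fun J ⟨hJp, hJ⟩ _ => ?_⟩⟩
    · apply Module.FaithfullyFlat.tensorProduct_mk_injective (A := R) (B := B) N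
      show (1 : B) ⊗ₜ[R] x = (1 : B) ⊗ₜ[R] 0
      rw [TensorProduct.tmul_zero]
      simpa using (Submodule.mem_annihilator_span_singleton ((1 : B) ⊗ₜ[R] x) (1 : B)).1 (hA ▸ Submodule.mem_top)
    · rw [← hm, Ideal.map_le_iff_le_comap]
      intro s hs
      obtain ⟨k, hk⟩ := hx s hs
      refine hJp.mem_of_pow_mem k (hJ ((Submodule.mem_annihilator_span_singleton _ _).2 ?_))
      rw [← map_pow, IsScalarTower.algebraMap_smul, ← TensorProduct.tmul_smul, hk, TensorProduct.tmul_zero]
  · intro h
    haveI : Algebra.WeaklyEtale R B := Groth.Agent.S0736.result _ _ hind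
    obtain ⟨S, hS, ⟨e⟩⟩ := Groth.Agent.IndEtLib.exists_sys hind
    obtain ⟨y, hy0, hy⟩ := mem_weakAss_maximal_iff_exists.1 h
    obtain ⟨l, b, x, rfl⟩ := exists_fin_sum_tmul y
    obtain ⟨j, c, hc⟩ := S.exists_lift_finset (Finset.univ : Finset (Fin l)) fun i => e.symm (b i)
    let ι : S.A j →ₐ[R] B := e.toAlgHom.comp (S.ι j)
    have hι : ∀ i, ι (c i) = b i := fun i => (congrArg e (hc i (Finset.mem_univ i))).trans (e.apply_symm_apply _)
    haveI := hS j
    letI : Algebra (S.A j) B := ι.toRingHom.toAlgebra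
    haveI : IsScalarTower R (S.A j) B := IsScalarTower.of_algebraMap_eq fun r => (ι.commutes r).symm
    haveI : Algebra.WeaklyEtale (S.A j) B := Groth.Agent.WEtLib.cancel (A := R) (B := S.A j) B
    let q := (maximalIdeal B).comap (algebraMap (S.A j) B)
    haveI : q.IsPrime := Ideal.IsPrime.comap _
    have hqR : q.comap (algebraMap R (S.A j)) = maximalIdeal R := by
      rw [Ideal.comap_comap, ← IsScalarTower.algebraMap_eq]
      exact ((local_hom_TFAE (algebraMap R B)).out 0 4).1 ‹_›
    haveI : q.LiesOver (maximalIdeal R) := ⟨hqR.symm⟩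
    let z : S.A j ⊗[R] N := ∑ i, c i ⊗ₜ x i
    let T := TensorProduct.AlgebraTensorModule.cancelBaseChange R (S.A j) B B N
    have hT : ∀ w : S.A j ⊗[R] N, T ((1 : B) ⊗ₜ[S.A j] w) = ι.toLinearMap.rTensor N w := fun w => by
      induction w using TensorProduct.induction_on with
      | zero => simp
      | tmul a n => simp [T, Algebra.smul_def]; rfl
      | add a a' ha ha' => simp only [TensorProduct.tmul_add, map_add, ha, ha']
    have hz : T ((1 : B) ⊗ₜ[S.A j] z) = ∑ i, b i ⊗ₜ[R] x i := by
      rw [hT, map_sum]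
      exact Finset.sum_congr rfl fun i _ => by rw [LinearMap.rTensor_tmul, AlgHom.toLinearMap_apply, hι]
    refine ((Groth.Agent.S1233.result N (maximalIdeal R) q).1 ⟨z, ⟨⟨inferInstance, fun a ha => ?_⟩, fun J ⟨hJp, hJ⟩ hJq => ?_⟩⟩)
    · by_contra haq
      have hu : IsUnit (algebraMap (S.A j) B a) := by
        by_contra hu
        exact haq hu
      have h0 : (algebraMap (S.A j) B a) • T ((1 : B) ⊗ₜ[S.A j] z) = 0 := by
        rw [← map_smul, TensorProduct.smul_tmul', smul_eq_mul, mul_one, ← mul_one (algebraMap (S.A j) B a),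
          ← Algebra.smul_def, TensorProduct.smul_tmul, (Submodule.mem_annihilator_span_singleton _ _).1 ha,
          TensorProduct.tmul_zero, map_zero]
      rw [hz] at h0
      exact hy0 (hu.smul_eq_zero.1 h0)
    · haveI := hJp
      refine (Algebra.QuasiFinite.eq_of_le_of_under_eq (R := R) J q hJq ?_).ge
      refine le_antisymm (Ideal.comap_mono hJq) fun s hs => ?_
      replace hs : s ∈ maximalIdeal R := hqR.le hs
      obtain ⟨k, hk⟩ := hy (algebraMap R B s) (hm.le (Ideal.mem_map_of_mem _ hs))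
      obtain ⟨t, ht, htw⟩ := exists_not_mem_smul_eq_zero (B := B) (algebraMap R (S.A j) (s ^ k) • z) (by
        refine T.injective ?_
        rw [map_zero, ← TensorProduct.smul_tmul, Algebra.smul_def, mul_one, ← IsScalarTower.algebraMap_apply, map_pow,
          ← mul_one (algebraMap R B s ^ k), ← smul_eq_mul, ← TensorProduct.smul_tmul', map_smul, hz, hk])
      have hmem : t * algebraMap R (S.A j) (s ^ k) ∈ J :=
        hJ ((Submodule.mem_annihilator_span_singleton _ _).2 (by rw [mul_smul]; exact htw))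
      rcases hJp.mem_or_mem hmem with h1 | h1
      · exact absurd (hJq h1) ht
      · exact hJp.mem_of_pow_mem k (by rwa [map_pow] at h1)
where
  exists_fin_sum_tmul {R B N : Type u} [CommRing R] [CommRing B] [Algebra R B] [AddCommGroup N] [Module R N]
      (y : B ⊗[R] N) : ∃ (l : ℕ) (b : Fin l → B) (x : Fin l → N), y = ∑ i, b i ⊗ₜ[R] x i := by
    induction y using TensorProduct.induction_on with
    | zero => exact ⟨0, ![], ![], by simp⟩
    | tmul b n => exact ⟨1, ![b], ![n], by simp⟩
    | add a a' ha ha' =>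
      obtain ⟨l, b, x, rfl⟩ := ha
      obtain ⟨l', b', x', rfl⟩ := ha'
      exact ⟨l + l', Fin.append b b', Fin.append x x', by simp [Fin.sum_univ_add]⟩

end Groth.Agent.WeakAssHens
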